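import Groth.Agent.MorLib.QFSplit

/-! Étale splitting of quasi-finite points without separatedness. -/

set_option autoImplicit false
universe u

namespace Groth.Agent.QFSplitGen

open AlgebraicGeometry CategoryTheory Limits
open Groth.Agent.MorLib

variable {X S T P V : Scheme.{u}}

/-- The residue extension of `π` at `x` is purely inseparable. -/
def PI (π : T ⟶ V) (x : T) : Prop :=
  letI := (π.residueFieldMap x).hom.toAlgebra
  IsPurelyInseparable (V.residueField (π x)) (T.residueField x)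

theorem isPurelyInseparable_bij {k K L : Type u} [Field k] [Field K] [Field L] (φ : k →+* K)
    (ψ : K →+* L) (hψ : Function.Bijective ψ) :
    (letI := (ψ.comp φ).toAlgebra; IsPurelyInseparable k L) ↔
      (letI := φ.toAlgebra; IsPurelyInseparable k K) := by
  letI := φ.toAlgebra
  letI : Algebra k L := (ψ.comp φ).toAlgebra
  let e : K ≃ₐ[k] L := AlgEquiv.ofRingEquiv (f := RingEquiv.ofBijective ψ hψ) fun _ => rfl
  exact ⟨fun h => e.symm.isPurelyInseparable, fun h => e.isPurelyInseparable⟩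

set_option backward.isDefEq.respectTransparency.types false in
theorem PI_comp_iff (e : T ⟶ P) [IsOpenImmersion e] (π : P ⟶ V) (x : T) :
    PI (e ≫ π) x ↔ PI π (e x) := by
  unfold PI
  rw [Scheme.residueFieldMap_comp]
  exact isPurelyInseparable_bij (π.residueFieldMap (e x)).hom (e.residueFieldMap x).hom
    (ConcreteCategory.bijective_of_isIso (e.residueFieldMap x))

theorem isClosed_range_sigmaι {ι : Type} (Y : ι → Scheme.{u}) (i : ι) :
    IsClosed (Set.range (Sigma.ι Y i)) := by
  have h : (Set.range (Sigma.ι Y i))ᶜ = ⋃ (j) (_ : j ≠ i), Set.range (Sigma.ι Y j) := by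
    ext z
    simp only [Set.mem_compl_iff, Set.mem_iUnion]
    refine ⟨fun hz => ?_, fun ⟨j, hj, hzj⟩ hzi => ?_⟩
    · obtain ⟨j, y, rfl⟩ : ∃ j y, Sigma.ι Y j y = z := (sigmaOpenCover Y).exists_eq z
      exact ⟨j, fun h => hz (by subst h; exact ⟨y, rfl⟩), y, rfl⟩
    · exact Set.disjoint_left.mp (TopologicalSpace.Opens.coe_disjoint.mpr
        (disjoint_opensRange_sigmaι Y j i hj)) hzj hzi
  exact ⟨h ▸ isOpen_iUnion fun j => isOpen_iUnion fun _ => (Sigma.ι Y j).isOpenEmbedding.isOpen_range⟩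

theorem range_eq {A B C D : Scheme.{u}} {h : A ⟶ B} {v : A ⟶ C} {a : B ⟶ D} {b : C ⟶ D}
    (hc : IsPullback h v a b) : Set.range h = a ⁻¹' Set.range b := by
  rw [← Scheme.Pullback.range_fst a b, ← hc.isoPullback_hom_fst]
  ext z
  constructor
  · rintro ⟨t, rfl⟩; exact ⟨hc.isoPullback.hom t, (Scheme.Hom.comp_apply ..).symm⟩
  · rintro ⟨t, rfl⟩
    obtain ⟨t, rfl⟩ := hc.isoPullback.hom.surjective t
    exact ⟨t, Scheme.Hom.comp_apply ..⟩

set_option maxHeartbeats 1000000 in
set_option backward.isDefEq.respectTransparency.types false in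
/-- Splitting off quasi-finite points of a possibly non-separated morphism. -/
theorem exists_split (f : X ⟶ S) [LocallyOfFiniteType f] (s : S) {ι : Type} [Finite ι]
    (x : ι → ↑X) (hinj : Function.Injective x) (hs : ∀ i, f (x i) = s)
    (hx : ∀ i, f.QuasiFiniteAt (x i)) :
    ∃ (U : Scheme.{u}) (g : U ⟶ S) (u : U), Etale g ∧ g u = s ∧
      ∃ (J : ι → Type) (_ : ∀ i, Finite (J i)) (V : ∀ i, J i → (pullback f g).Opens)
        (v : ∀ i, J i → ↑(pullback f g)),
        (∀ i j, v i j ∈ V i j ∧ IsFinite ((V i j).ι ≫ pullback.snd f g) ∧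
          pullback.snd f g (v i j) = u ∧
          (∀ w : ↑(pullback f g), w ∈ V i j → pullback.snd f g w = u → w = v i j) ∧
          PI (pullback.snd f g) (v i j) ∧ pullback.fst f g (v i j) = x i) ∧
        (∀ i j i' j', v i j = v i' j' → i = i' ∧ HEq j j') ∧
        (∀ (w : ↑(pullback f g)) (i : ι), pullback.snd f g w = u → pullback.fst f g w = x i →
          ∃ j, w = v i j) := by
  classical
  have hA : ∀ i, ∃ A : X.Opens, IsAffineOpen A ∧ x i ∈ A := fun i => by
    obtain ⟨A, hA, hxA, -⟩ :=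
      exists_isAffineOpen_mem_and_subset (x := x i) (U := (⊤ : X.Opens)) trivial
    exact ⟨A, hA, hxA⟩
  choose A hA hxA using hA
  haveI : ∀ i, IsAffine (A i : Scheme.{u}) := hA
  let Y : ι → Scheme.{u} := fun i => (A i : Scheme.{u})
  let f' : ∐ Y ⟶ S := Sigma.desc fun i => (A i).ι ≫ f
  have hι : ∀ i, Sigma.ι Y i ≫ f' = (A i).ι ≫ f := fun i => Sigma.ι_desc _ i
  haveI : LocallyOfFiniteType f' := by
    rw [IsZariskiLocalAtSource.iff_of_openCover (P := @LocallyOfFiniteType) (sigmaOpenCover Y)]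
    intro i
    show LocallyOfFiniteType (Sigma.ι Y i ≫ f')
    rw [hι]; infer_instance
  haveI : IsSeparated f' := inferInstance
  let y : ι → ↑(∐ Y) := fun i => Sigma.ι Y i ⟨x i, hxA i⟩
  have hyinj : Function.Injective y := fun i j h => by
    by_contra hne
    exact Set.disjoint_left.mp (TopologicalSpace.Opens.coe_disjoint.mpr
      (disjoint_opensRange_sigmaι Y i j hne)) ⟨_, rfl⟩ ⟨_, h.symm⟩
  have hys : ∀ i, f' (y i) = s := fun i => by
    show f' (Sigma.ι Y i _) = s
    rw [← Scheme.Hom.comp_apply, hι, Scheme.Hom.comp_apply]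
    exact hs i
  have hyq : ∀ i, f'.QuasiFiniteAt (y i) := fun i => by
    refine (Scheme.Hom.quasiFiniteAt_comp_iff_of_isOpenImmersion (f := Sigma.ι Y i)).mp ?_
    rw [hι]
    exact Scheme.Hom.quasiFiniteAt_comp_iff_of_isOpenImmersion.mpr (hx i)
  obtain ⟨U, g, u, hg, hgu, J, hJ, V', v', -, hdis, hprop, hcov⟩ :=
    WT.exists_split f' s y hyinj hys hyq
  let R := fun i => pullback ((A i).ι ≫ f) g
  let m : ∀ i, R i ⟶ pullback f' g := fun i =>
    pullback.map _ _ _ _ (Sigma.ι Y i) (𝟙 U) (𝟙 S) (by simp [hι]) (by simp)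
  let n : ∀ i, R i ⟶ pullback f g := fun i =>
    pullback.map _ _ _ _ (A i).ι (𝟙 U) (𝟙 S) (by simp) (by simp)
  have hms : ∀ i, m i ≫ pullback.snd f' g = pullback.snd _ _ := fun i =>
    (pullback.lift_snd ..).trans (Category.comp_id _)
  have hns : ∀ i, n i ≫ pullback.snd f g = pullback.snd _ _ := fun i =>
    (pullback.lift_snd ..).trans (Category.comp_id _)
  have hm : ∀ i, IsPullback (m i) (pullback.fst _ _) (pullback.fst f' g) (Sigma.ι Y i) := fun i =>
    IsPullback.of_right (by rw [hms, hι]; exact (IsPullback.of_hasPullback ((A i).ι ≫ f) g).flip)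
      (pullback.lift_fst ..) (IsPullback.of_hasPullback f' g).flip
  have hn : ∀ i, IsPullback (n i) (pullback.fst _ _) (pullback.fst f g) (A i).ι := fun i =>
    IsPullback.of_right (by rw [hns]; exact (IsPullback.of_hasPullback ((A i).ι ≫ f) g).flip)
      (pullback.lift_fst ..) (IsPullback.of_hasPullback f g).flip
  haveI : ∀ i, IsOpenImmersion (m i) := fun i =>
    MorphismProperty.of_isPullback (hm i).flip inferInstance
  haveI : ∀ i, IsOpenImmersion (n i) := fun i =>
    MorphismProperty.of_isPullback (hn i).flip inferInstance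
  haveI : ∀ i, IsClosedImmersion (Sigma.ι Y i) := fun i =>
    IsClosedImmersion.of_isPreimmersion _ (isClosed_range_sigmaι Y i)
  haveI : ∀ i, IsClosedImmersion (m i) := fun i =>
    MorphismProperty.of_isPullback (hm i).flip inferInstance
  have hmsp : ∀ i t, pullback.snd f' g (m i t) = pullback.snd f g (n i t) := fun i t => by
    rw [← Scheme.Hom.comp_apply, ← Scheme.Hom.comp_apply, hms, hns]
  have hnf : ∀ i t, pullback.fst f g (n i t) = (pullback.fst ((A i).ι ≫ f) g t).1 := fun i t => by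
    rw [← Scheme.Hom.comp_apply, (hn i).w, Scheme.Hom.comp_apply]
    rfl
  have hmf : ∀ i t, pullback.fst f' g (m i t) = Sigma.ι Y i (pullback.fst ((A i).ι ≫ f) g t) :=
    fun i t => by rw [← Scheme.Hom.comp_apply, (hm i).w, Scheme.Hom.comp_apply]
  have ht : ∀ i j, ∃ t : R i, m i t = v' i j := fun i j => by
    have : v' i j ∈ Set.range (m i) := by
      rw [range_eq (hm i)]
      exact ⟨_, (hprop i j).2.2.2.2.2.symm⟩
    exact this
  choose t ht using ht
  refine ⟨U, g, u, hg, hgu, J, hJ, fun i j => n i ''ᵁ (m i ⁻¹ᵁ V' i j), fun i j => n i (t i j),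
    fun i j => ⟨?_, ?_, ?_, ?_, ?_, ?_⟩, ?_, ?_⟩
  · exact ⟨t i j, show m i (t i j) ∈ V' i j by rw [ht]; exact (hprop i j).1, rfl⟩
  · haveI := (hprop i j).2.1
    have e : ((n i).isoImage (m i ⁻¹ᵁ V' i j)).hom ≫ (n i ''ᵁ (m i ⁻¹ᵁ V' i j)).ι ≫
        pullback.snd f g = m i ∣_ V' i j ≫ (V' i j).ι ≫ pullback.snd f' g := by
      rw [Scheme.Hom.isoImage_hom_ι_assoc, hns, morphismRestrict_ι_assoc, hms]
    rw [← MorphismProperty.cancel_left_of_respectsIso (P := @IsFinite)
      ((n i).isoImage (m i ⁻¹ᵁ V' i j)).hom, e]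
    infer_instance
  · rw [← hmsp, ht]; exact (hprop i j).2.2.1
  · rintro w ⟨t', ht', rfl⟩ hw
    have h := (hprop i j).2.2.2.1 (m i t') ht' (by rw [hmsp]; exact hw)
    exact congrArg (n i) ((m i).isOpenEmbedding.injective (h.trans (ht i j).symm))
  · have h : PI (pullback.snd f' g) (m i (t i j)) := by rw [ht]; exact (hprop i j).2.2.2.2.1
    rw [← PI_comp_iff, hms, ← hns, PI_comp_iff] at h
    exact h
  · have h := (hprop i j).2.2.2.2.2
    rw [← ht, hmf] at h
    rw [hnf, (Sigma.ι Y i).isOpenEmbedding.injective h]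
  · intro i j i' j' h
    have hf : ∀ i j, pullback.fst f g (n i (t i j)) = x i := fun i j => by
      have h := (hprop i j).2.2.2.2.2
      rw [← ht, hmf] at h
      rw [hnf, (Sigma.ι Y i).isOpenEmbedding.injective h]
    obtain rfl : i = i' := hinj ((hf i j).symm.trans ((congrArg _ h).trans (hf i' j')))
    have ht' : t i j = t i j' := (n i).isOpenEmbedding.injective h
    exact hdis i j i j' ⟨v' i j, (hprop i j).1,
      by rw [← ht, ht', ht]; exact (hprop i j').1⟩
  · intro w i hwu hwx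
    obtain ⟨t', rfl⟩ : w ∈ Set.range (n i) := by
      rw [range_eq (hn i)]
      exact ⟨⟨x i, hxA i⟩, hwx.symm⟩
    obtain ⟨j, hj⟩ := hcov (m i t') i (by rw [hmsp]; exact hwu) (by
      rw [hmf]
      exact congrArg (Sigma.ι Y i) (Subtype.ext ((hnf i t').symm.trans hwx)))
    have h := (hprop i j).2.2.2.1 (m i t') hj (by rw [hmsp]; exact hwu)
    exact ⟨j, congrArg (n i) ((m i).isOpenEmbedding.injective (h.trans (ht i j).symm))⟩

end Groth.Agent.QFSplitGen
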